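import Cfsg.Agent.Sourour.Setup

/-!
# Dimensions one, two and three
-/

set_option linter.unusedSectionVars false

namespace Cfsg.Agent.Sourour

open Module

variable {K : Type*} [Field K] {V : Type*} [AddCommGroup V] [Module K V] [FiniteDimensional K V]

/-- An endomorphism of determinant one which is close to one is a transvection. -/
theorem exists_transvection {g : V →ₗ[K] V} (hdet : LinearMap.det g = 1) (h : rk g 1 ≤ 1) :
    ∃ (f : Dual K V) (a : V), f a = 0 ∧ g = LinearMap.transvection f a := by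
  obtain ⟨w, hw⟩ := finrank_le_one_iff.1 h
  obtain ⟨f, hf⟩ : ∃ f : Dual K V, g = LinearMap.transvection f (w : V) := by
    by_cases hw0 : (w : V) = 0
    · refine ⟨0, LinearMap.ext fun x => ?_⟩
      obtain ⟨a, ha⟩ := hw ⟨sh g 1 x, LinearMap.mem_range_self _ _⟩
      have h1 : a • (w : V) = sh g 1 x := congrArg Subtype.val ha
      rw [hw0, smul_zero, sh_apply, one_smul, eq_comm, sub_eq_zero] at h1
      simp [LinearMap.transvection.apply, h1]
    · obtain ⟨f, hf, -⟩ := exists_functional (S := (⊥ : Submodule K V)) (x := (w : V)) (by simpa using hw0)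
      refine ⟨(f (w : V))⁻¹ • f.comp (sh g 1), LinearMap.ext fun x => ?_⟩
      obtain ⟨a, ha⟩ := hw ⟨sh g 1 x, LinearMap.mem_range_self _ _⟩
      have h1 : a • (w : V) = sh g 1 x := congrArg Subtype.val ha
      rw [LinearMap.transvection.apply, LinearMap.smul_apply, LinearMap.comp_apply, ← h1, map_smul,
        smul_eq_mul, smul_eq_mul, mul_left_comm, inv_mul_cancel₀ hf, mul_one, h1, sh_apply, one_smul]
      abel
  refine ⟨f, w, ?_, hf⟩
  rw [hf, LinearMap.transvection.det] at hdet
  linear_combination hdet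

theorem trace_of_rk_le_one {g : V →ₗ[K] V} (hdet : LinearMap.det g = 1) (h : rk g 1 ≤ 1) :
    LinearMap.trace K V g = (finrank K V : K) := by
  obtain ⟨f, a, hfa, rfl⟩ := exists_transvection hdet h
  rw [show LinearMap.transvection f a = LinearMap.id + f.smulRight a from
    LinearMap.ext fun x => by simp [LinearMap.transvection.apply], map_add, LinearMap.trace_id,
    LinearMap.trace_smulRight, hfa, add_zero]

theorem factor_one (hV : finrank K V = 1) {g : V →ₗ[K] V} (hdet : LinearMap.det g = 1) :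
    Factor 1 g := by
  obtain ⟨u, hu, hu'⟩ := finrank_eq_one_iff'.1 hV
  obtain ⟨a, ha⟩ := hu' (g u)
  have hga : g = a • LinearMap.id := LinearMap.ext fun x => by
    obtain ⟨b, rfl⟩ := hu' x
    simp [← ha, smul_comm a b]
  have ha1 : a = 1 := by
    rw [hga, LinearMap.det_smul, hV, LinearMap.det_id, pow_one, mul_one] at hdet
    exact hdet
  intro c hc r hr
  refine ⟨0, 0, by simp, by simp, ?_, ?_, ?_⟩
  · rw [hga, ha1, one_smul, add_zero, mul_one]
    rfl
  · simpa using hc
  · simpa [Module.End.one_eq_id] using hr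

theorem factor_two (hK : Big K 3) (hV : finrank K V = 2) {g : V →ₗ[K] V}
    (hdet : LinearMap.det g = 1) (hg : Good g) : Factor 2 g := by
  intro c hc r hr
  obtain ⟨fC, hfC, hfCv⟩ := exists_guard_col (g := g) c hg.2
  obtain ⟨v, hv, hve⟩ := exists_noneigen_two (m := 2) hK hV g hg.1 [r, fC] (by simp)
    (by simp [hr, hfC])
  obtain ⟨φ, h0, h1⟩ := exists_phi hve
  have hP : plane g v = ⊤ := Submodule.eq_top_of_finrank_eq (by rw [finrank_plane hve, hV])
  have hmem : ∀ x, x ∈ plane g v := fun x => by rw [hP]; exact Submodule.mem_top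
  let S : Split g := ⟨v, φ, h0, h1⟩
  obtain ⟨z, hz⟩ := exists_row_witness h0 h1 hg.2
  have hH := S.finrank_H
  have hfac : Factor (2 - 1) S.red :=
    factor_one (by omega) (by rw [← S.det_eq]; exact hdet)
  exact step S hV (by norm_num) hfac (hv r (by simp))
    (col_cond h0 h1 hc (hfCv v (hv fC (by simp))) (hmem c)) (ne_self_of_noneigen hve) (hz (hmem _))

/-- An endomorphism of a plane with determinant one and trace two. -/
theorem two_dim {T : V →ₗ[K] V} (hV : finrank K V = 2) {u : V} (hu : u ≠ 0) {e : K}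
    (he : T u = e • u) (hdet : LinearMap.det T = 1) (htr : LinearMap.trace K V T = 2) :
    e = 1 ∧ ∀ x, T x - x ∈ Submodule.span K {u} := by
  classical
  obtain ⟨y, hy⟩ := exists_not_mem_span_singleton (K := K) (W := V) (by omega) u
  have hli : LinearIndependent K ![u, y] := (LinearIndependent.pair_iff' hu).2 fun a ha =>
    hy (Submodule.mem_span_singleton.2 ⟨a, ha⟩)
  let b : Basis (Fin 2) K V := basisOfLinearIndependentOfCardEqFinrank hli (by simp [hV])
  have hb0 : b 0 = u := by simp [b]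
  have hb1 : b 1 = y := by simp [b]
  set M := LinearMap.toMatrix b b T with hM
  have h10 : M 1 0 = 0 := by
    rw [hM, LinearMap.toMatrix_apply, hb0, he, ← hb0, map_smul, b.repr_self]
    simp
  have h00 : M 0 0 = e := by
    rw [hM, LinearMap.toMatrix_apply, hb0, he, ← hb0, map_smul, b.repr_self]
    simp
  have hd : e * M 1 1 = 1 := by
    rw [← hdet, ← LinearMap.det_toMatrix b, ← hM, Matrix.det_fin_two, h10, h00]
    ring
  have ht : e + M 1 1 = 2 := by
    rw [← htr, LinearMap.trace_eq_matrix_trace K b, ← hM, Matrix.trace_fin_two, h00]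
  have he1 : e = 1 := by
    have : (e - 1) * (e - 1) = 0 := by linear_combination e * ht - hd
    exact sub_eq_zero.1 (mul_self_eq_zero.1 this)
  have h11 : M 1 1 = 1 := by linear_combination hd - M 1 1 * he1
  have hTy : T y = M 0 1 • u + y := by
    conv_lhs => rw [← b.sum_repr (T y)]
    have e0 : b.repr (T y) 0 = M 0 1 := by rw [hM, LinearMap.toMatrix_apply, hb1]
    have e1 : b.repr (T y) 1 = M 1 1 := by rw [hM, LinearMap.toMatrix_apply, hb1]
    rw [Fin.sum_univ_two, hb0, hb1, e0, e1, h11, one_smul]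
  refine ⟨he1, fun x => ?_⟩
  rw [← b.sum_repr x, Fin.sum_univ_two, hb0, hb1, map_add, map_smul, map_smul, he, he1, hTy]
  exact Submodule.mem_span_singleton.2 ⟨b.repr x 1 * M 0 1, by module⟩

/-- The constant condition on `g (g v)` in dimension three. -/
private theorem trace_cond {g : V →ₗ[K] V} (hV : finrank K V = 3) (hdet : LinearMap.det g = 1)
    (hg : Good g) {v : V} (hve : ∀ a : K, g v ≠ a • v) {φ : Dual K V} (h0 : φ v = 1)
    (h1 : φ (g v) = 1) (hvr : v ∈ LinearMap.range (sh g 1) → LinearMap.range (sh g 1) = ⊤)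
    (hmem : g (g v) ∈ plane g v) : φ (g (g v)) ≠ LinearMap.trace K V g - 2 := by
  intro heq
  let S : Split g := ⟨v, φ, h0, h1⟩
  have hH := S.finrank_H
  have htr : LinearMap.trace K S.H S.red = 2 := by
    have h2 := S.trace_eq
    change LinearMap.trace K V g = LinearMap.trace K S.H S.red + φ (g (g v)) at h2
    linear_combination -h2 - heq
  have hdr : LinearMap.det S.red = 1 := by rw [← S.det_eq]; exact hdet
  have hcol : S.col ≠ 0 := fun h =>
    ne_self_of_noneigen hve (sub_eq_zero.1 (congrArg Subtype.val h))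
  obtain ⟨b, a, hab⟩ := Submodule.mem_span_pair.1 hmem
  have hred : S.red S.col = (-b) • S.col := Subtype.ext (by
    rw [Split.coe_red, Submodule.coe_smul]
    show g (g v - v) - φ (g (g v - v)) • g v = -b • (g v - v)
    rw [map_sub, ← hab, map_sub, map_add, map_smul, map_smul, h0, h1, smul_eq_mul, smul_eq_mul]
    module)
  obtain ⟨-, hsp⟩ := two_dim (by omega) hcol hred hdr htr
  have hle : LinearMap.range (sh g 1) ≤ plane g v := by
    refine (range_le S 1).trans (sup_le ?_ ?_)
    · rintro _ ⟨x, hx, rfl⟩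
      obtain ⟨t, ht⟩ := Submodule.mem_span_singleton.1 (hsp ⟨x, hx⟩)
      have h3 : t • (g v - v) = g x - φ (g x) • g v - x := congrArg Subtype.val ht
      rw [sh_apply, one_smul, show g x - x = t • (g v - v) + φ (g x) • g v by rw [h3]; abel]
      exact add_mem (Submodule.smul_mem _ _ (sub_mem (right_mem_plane g v) (left_mem_plane g v)))
        (Submodule.smul_mem _ _ (right_mem_plane g v))
    · rw [Submodule.span_singleton_le_iff_mem, sh_apply, one_smul]
      exact sub_mem (right_mem_plane g v) (left_mem_plane g v)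
  have h4 := Submodule.eq_of_le_of_finrank_le hle ((finrank_plane_le g v).trans hg.2)
  have h5 := hvr (h4.ge (left_mem_plane g v))
  rw [h4] at h5
  have h6 := finrank_plane hve
  rw [h5, finrank_top] at h6
  omega

theorem chosen_three (hK : Big K 3) (hK4 : (2 : K) ≠ 0 → Big K 4) (hV : finrank K V = 3)
    {g : V →ₗ[K] V} (hdet : LinearMap.det g = 1) (hg : Good g) {c : V} (hc : c ≠ 0)
    {r : Dual K V} (hr : r ≠ 0) : Chosen g c r := by
  have : Nontrivial V := Module.nontrivial_of_finrank_pos (R := K) (by omega)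
  obtain ⟨m, hm, hm3, hm4⟩ : ∃ m, Big K m ∧ 3 ≤ m ∧ ((2 : K) ≠ 0 → 4 ≤ m) := by
    by_cases h2 : (2 : K) = 0
    · exact ⟨3, hK, le_rfl, fun h => absurd h2 h⟩
    · exact ⟨4, hK4 h2, by norm_num, fun _ => le_rfl⟩
  obtain ⟨fP, hfP, hfPv⟩ := exists_guard' (LinearMap.range (sh g 1))
  obtain ⟨fM, hfM, hfMv⟩ := exists_guard' (LinearMap.range (sh g (-1)))
  obtain ⟨Lv, hLvlen, hLv0, hLvM⟩ : ∃ Lv : List (Dual K V), Lv.length + 3 ≤ m ∧
      (∀ f ∈ Lv, f ≠ 0) ∧ ((2 : K) ≠ 0 → fM ∈ Lv) := by
    by_cases h2 : (2 : K) = 0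
    · exact ⟨[], by simpa using hm3, by simp, fun h => absurd h2 h⟩
    · exact ⟨[fM], by simpa using hm4 h2, by simp [hfM], fun _ => by simp⟩
  obtain ⟨v, φ, h0, h1, hve, hrv, hgc, hLv⟩ :=
    exists_vector hm (by omega) hg c hr (fP :: Lv) (by simp; omega)
      (by simp only [List.forall_mem_cons]; exact ⟨hfP, hLv0⟩)
  simp only [List.forall_mem_cons] at hLv
  obtain ⟨Lx, hlen, hLxP, hLx⟩ : ∃ Lx : List (V × K), Lx.length + 3 ≤ m ∧
      (∀ q ∈ Lx, q.1 ∉ plane g v) ∧
      ((2 : K) ≠ 0 → rk g (-1) ≤ 1 → ∃ x ∈ LinearMap.ker (sh g (-1)), (x, (0 : K)) ∈ Lx) := by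
    by_cases hA : (2 : K) ≠ 0 ∧ rk g (-1) ≤ 1
    · have hkd := ker_add_rk g (-1)
      obtain ⟨x, hx, hxP⟩ := exists_eigen_not_mem hve (-1) (by omega)
      exact ⟨[(x, 0)], by simpa using hm4 hA.1, by simp [hxP], fun _ _ => ⟨x, hx, by simp⟩⟩
    · exact ⟨[], by simpa using hm3, by simp, fun h h' => absurd ⟨h, h'⟩ hA⟩
  obtain ⟨S, z, hSv, hSc, hSz, hSx⟩ := exists_functional_split hm hg.2 h0 h1 hc hgc
    ((g (g v), LinearMap.trace K V g - 2) :: Lx) (by simp; omega) (by
      simp only [List.forall_mem_cons]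
      exact ⟨fun hmem => trace_cond hV hdet hg hve h0 h1 (hfPv v hLv.1) hmem,
        fun q hq h => absurd h (hLxP q hq)⟩)
  subst hSv
  simp only [List.forall_mem_cons] at hSx
  have hH := S.finrank_H
  have hdr : LinearMap.det S.red = 1 := by rw [← S.det_eq]; exact hdet
  have htr : LinearMap.trace K S.H S.red ≠ 2 := fun h => hSx.1 (by
    rw [S.trace_eq, h]; ring)
  refine ⟨S, z, hrv, hSc, ne_self_of_noneigen hve, hSz, fun μ hμ => ?_, ?_⟩
  · have hμsq : μ * μ = 1 := by
      rw [hμ, LinearMap.det_smul, LinearMap.det_id, show finrank K S.H = 2 by omega, mul_one] at hdr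
      rwa [← pow_two]
    have htμ : μ * 2 ≠ 2 := by
      rw [hμ, map_smul, LinearMap.trace_id, show finrank K S.H = 2 by omega, smul_eq_mul] at htr
      exact_mod_cast htr
    have hμm : μ = -1 := (mul_self_eq_one_iff.1 hμsq).resolve_left fun h => htμ (by rw [h, one_mul])
    have h2 : (2 : K) ≠ 0 := fun h => htμ (by rw [h, mul_zero])
    subst hμm
    have hsc := scalar_red S hμ
    have h7 := rk_le S (-1)
    have h8 : finrank K (S.H.map (sh g (-1))) ≤ 1 :=
      (Submodule.finrank_mono (Submodule.map_le_iff_le_comap.2 hsc)).trans (finrank_span_single_le _)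
    have hvr : S.v ∉ LinearMap.range (sh g (-1)) := fun hm' => by
      have : rk g (-1) = finrank K V := by
        show finrank K (LinearMap.range (sh g (-1))) = _
        rw [hfMv _ (hLv.2 fM (hLvM h2)) hm', finrank_top]
      omega
    rw [map_eq_bot S hsc (gv_not_mem hvr (neg_ne_zero.2 one_ne_zero)), finrank_bot] at h7
    obtain ⟨x, hx, hxL⟩ := hLx h2 (by omega)
    refine hSx.2 _ hxL (phi_ker S ?_ hx)
    rw [map_eq_bot S hsc (gv_not_mem hvr (neg_ne_zero.2 one_ne_zero)), finrank_bot]
    exact rk_pos hg.1 _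
  · by_contra hlt
    refine htr ?_
    rw [trace_of_rk_le_one hdr (by omega), show finrank K S.H = 2 by omega]
    norm_num

end Cfsg.Agent.Sourour
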