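import Cfsg.Agent.Sourour.Large
import Cfsg.Agent.Sourour.Small

/-!
# Products of two regular unipotents
-/

set_option linter.unusedSectionVars false

namespace Cfsg.Agent.Sourour

open Module

universe v

variable {K : Type*} [Field K]

theorem factor_good (hK : Big K 3) (hK4 : (2 : K) ≠ 0 → Big K 4) :
    ∀ (k : ℕ) {V : Type v} [AddCommGroup V] [Module K V] [FiniteDimensional K V]
      {g : V →ₗ[K] V}, finrank K V = k → 2 ≤ k → LinearMap.det g = 1 → Good g → Factor k g := by
  intro k
  induction k using Nat.strong_induction_on with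
  | h k ih =>
    intro V _ _ _ g hV hk hdet hg
    by_cases h2 : k = 2
    · subst h2
      exact factor_two hK hV hdet hg
    intro c hc r hr
    have hC : Chosen g c r := by
      by_cases h3 : k = 3
      · exact chosen_three hK hK4 (hV.trans h3) hdet hg hc hr
      · exact chosen_large hK (by omega) (injective_of_det hdet) hg hc hr
    obtain ⟨S, z, hrv, hSc, hv, hz, hgood⟩ := hC
    have hH := S.finrank_H
    have hdr : LinearMap.det S.red = 1 := by rw [← S.det_eq]; exact hdet
    exact step S hV (by omega) (ih (k - 1) (by omega) (by omega) (by omega) hdr hgood) hrv hSc hv hz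

variable {V : Type v} [AddCommGroup V] [Module K V] [FiniteDimensional K V]

/-- The powers of a nilpotent applied to a vector are independent up to the last nonzero one. -/
theorem linearIndependent_pow (N : Module.End K V) :
    ∀ (n : ℕ) (c : V), (N ^ n) c = 0 → (∀ i < n, (N ^ i) c ≠ 0) →
      LinearIndependent K fun i : Fin n => (N ^ (i : ℕ)) c := by
  intro n
  induction n with
  | zero => exact fun _ _ _ => linearIndependent_empty_type
  | succ n ih =>
    intro c h0 hne
    have hs : ∀ i : ℕ, (N ^ (i + 1)) c = (N ^ i) (N c) := fun i => by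
      rw [pow_succ, Module.End.mul_apply]
    have h1 := ih (N c) (by rw [← hs]; exact h0)
      (fun i hi => by rw [← hs]; exact hne _ (by omega))
    have e : (fun i : Fin (n + 1) => (N ^ (i : ℕ)) c) =
        Fin.cons c (fun i : Fin n => (N ^ (i : ℕ)) (N c)) := by
      funext i
      refine Fin.cases ?_ (fun j => ?_) i
      · simp
      · simp [hs]
    rw [e]
    refine linearIndependent_finCons.2 ⟨h1, fun hmem => ?_⟩
    have hkill : Submodule.span K (Set.range fun i : Fin n => (N ^ (i : ℕ)) (N c)) ≤
        LinearMap.ker (N ^ n) := by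
      rw [Submodule.span_le]
      rintro _ ⟨i, rfl⟩
      dsimp only
      rw [SetLike.mem_coe, LinearMap.mem_ker, ← hs, ← Module.End.mul_apply, ← pow_add,
        show n + ((i : ℕ) + 1) = (i : ℕ) + (n + 1) by omega, pow_add, Module.End.mul_apply, h0,
        map_zero]
    exact hne n (by omega) (LinearMap.mem_ker.1 (hkill hmem))

/-- Regular nilpotent. -/
def Regular (n : ℕ) (N : Module.End K V) : Prop := N ^ n = 0 ∧ N ^ (n - 1) ≠ 0

/-- A chain basis of a regular nilpotent. -/
theorem exists_chain {n : ℕ} (hn : 1 ≤ n) (hV : finrank K V = n) {N : Module.End K V}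
    (hN : Regular n N) : ∃ e : Basis (Fin n) K V, ∀ j : Fin n,
      N (e j) = if h : 0 < (j : ℕ) then e ⟨(j : ℕ) - 1, by omega⟩ else 0 := by
  obtain ⟨c, hc⟩ : ∃ c, (N ^ (n - 1)) c ≠ 0 := by
    by_contra h
    push Not at h
    exact hN.2 (LinearMap.ext h)
  have hli : LinearIndependent K fun i : Fin n => (N ^ (i : ℕ)) c :=
    linearIndependent_pow N n c (by rw [hN.1]; rfl) fun i hi h => hc (by
      rw [show n - 1 = (n - 1 - i) + i by omega, pow_add, Module.End.mul_apply, h, map_zero])
  have hli' := hli.comp (fun j : Fin n => j.rev) Fin.rev_injective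
  have : Nonempty (Fin n) := ⟨⟨0, by omega⟩⟩
  refine ⟨basisOfLinearIndependentOfCardEqFinrank hli' (by simp [hV]), fun j => ?_⟩
  simp only [coe_basisOfLinearIndependentOfCardEqFinrank, Function.comp_apply, Fin.val_rev]
  rw [← Module.End.mul_apply, ← pow_succ']
  split_ifs with h
  · congr 2
    omega
  · rw [show n - ((j : ℕ) + 1) + 1 = n by omega, hN.1]
    rfl

/-- A transvection is the top power of a regular nilpotent, plus one. -/
theorem exists_top_power {n : ℕ} (hn : 2 ≤ n) (hV : finrank K V = n) {f : Dual K V} {a : V}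
    (hf : f ≠ 0) (ha : a ≠ 0) (hfa : f a = 0) :
    ∃ N : Module.End K V, N ^ n = 0 ∧ N ^ (n - 1) = f.smulRight a := by
  obtain ⟨u, hu⟩ : ∃ u, f u = 1 := by
    obtain ⟨y, hy⟩ : ∃ y, f y ≠ 0 := by
      by_contra h
      push Not at h
      exact hf (LinearMap.ext h)
    exact ⟨(f y)⁻¹ • y, by simp [hy]⟩
  let a' : LinearMap.ker f := ⟨a, hfa⟩
  have ha' : a' ≠ 0 := fun h => ha (congrArg Subtype.val h)
  obtain ⟨Q, hQ⟩ := Submodule.exists_isCompl (Submodule.span K {a'})
  have hkd : finrank K (LinearMap.ker f) = n - 1 := by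
    have h := f.finrank_range_add_finrank_ker
    have hr : LinearMap.range f = ⊤ := LinearMap.range_eq_top.2 fun t => ⟨t • u, by simp [hu]⟩
    rw [hr, finrank_top, Module.finrank_self, hV] at h
    omega
  have hQd : finrank K Q = n - 2 := by
    have h := Submodule.finrank_add_eq_of_isCompl hQ
    rw [finrank_span_singleton ha', hkd] at h
    omega
  obtain ⟨m, rfl⟩ : ∃ m, n = m + 2 := ⟨n - 2, by omega⟩
  let bQ : Basis (Fin m) K Q := finBasisOfFinrankEq K Q (by omega)
  have hw : LinearIndependent K (Fin.snoc (fun i => ((bQ i : LinearMap.ker f) : LinearMap.ker f)) a' :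
      Fin (m + 1) → LinearMap.ker f) := by
    refine linearIndependent_finSnoc.2
      ⟨bQ.linearIndependent.map' Q.subtype (Submodule.ker_subtype Q), fun hmem => ha' ?_⟩
    have h1 : a' ∈ Q := (Submodule.span_le.2 (by rintro _ ⟨i, rfl⟩; exact (bQ i).2)) hmem
    exact (Submodule.disjoint_def.1 hQ.disjoint) a' (Submodule.mem_span_singleton_self a') h1
  set e' : Fin (m + 2) → V := Fin.cons u
    (fun i => ((Fin.snoc (fun i => ((bQ i : LinearMap.ker f) : LinearMap.ker f)) a' :
      Fin (m + 1) → LinearMap.ker f) i : V)) with he'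
  have hli : LinearIndependent K e' := by
    refine linearIndependent_finCons.2
      ⟨hw.map' (LinearMap.ker f).subtype (Submodule.ker_subtype _), fun hmem => ?_⟩
    have h1 : u ∈ LinearMap.ker f :=
      (Submodule.span_le.2 (by rintro _ ⟨i, rfl⟩; exact Subtype.mem _)) hmem
    rw [LinearMap.mem_ker, hu] at h1
    exact one_ne_zero h1
  let b := basisOfLinearIndependentOfCardEqFinrank hli (by simp [hV])
  have hb : ∀ j, b j = e' j := fun j => by simp [b]
  have hblast : b (Fin.last (m + 1)) = a := by
    rw [hb, ← Fin.succ_last, he', Fin.cons_succ, Fin.snoc_last]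
  have hb0 : f (b 0) = 1 := by rw [hb, he', Fin.cons_zero, hu]
  have hbs : ∀ i : Fin (m + 1), f (b i.succ) = 0 := fun i => by
    rw [hb, he', Fin.cons_succ]
    exact LinearMap.mem_ker.1 (Subtype.mem _)
  let N : Module.End K V :=
    b.constr K fun j => if h : (j : ℕ) + 1 < m + 2 then b ⟨(j : ℕ) + 1, h⟩ else 0
  have hN : ∀ (i : ℕ) (j : Fin (m + 2)),
      (N ^ i) (b j) = if h : (j : ℕ) + i < m + 2 then b ⟨(j : ℕ) + i, h⟩ else 0 := by
    intro i
    induction i with
    | zero => intro j; simp
    | succ i ih =>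
      intro j
      rw [pow_succ', Module.End.mul_apply, ih]
      by_cases h : (j : ℕ) + i < m + 2
      · rw [dif_pos h]
        show b.constr K _ (b _) = _
        rw [Basis.constr_basis]
        by_cases h' : (j : ℕ) + i + 1 < m + 2
        · rw [dif_pos h', dif_pos (show (j : ℕ) + (i + 1) < m + 2 by omega)]
          congr 1
        · rw [dif_neg h', dif_neg (show ¬(j : ℕ) + (i + 1) < m + 2 by omega)]
      · rw [dif_neg h, map_zero, dif_neg (by omega)]
  refine ⟨N, b.ext fun j => ?_, b.ext fun j => ?_⟩
  · rw [hN, dif_neg (by omega)]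
    rfl
  · rw [hN, LinearMap.smulRight_apply]
    refine Fin.cases ?_ (fun i => ?_) j
    · rw [dif_pos (by simp), hb0, one_smul, ← hblast]
      congr 1
      ext
      simp
    · rw [dif_neg (by simp; omega), hbs, zero_smul]

/-- **A nonscalar unimodular endomorphism is a product of two regular unipotents.** -/
theorem exists_regular_pair (hK : Big K 3) (hK4 : (2 : K) ≠ 0 → Big K 4) {n : ℕ} (hn : 3 ≤ n)
    (hV : finrank K V = n) {g : V →ₗ[K] V} (hdet : LinearMap.det g = 1)
    (hg : ∀ a : K, g ≠ a • LinearMap.id) :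
    ∃ N M : Module.End K V, Regular n N ∧ Regular n M ∧
      (g : Module.End K V) = (1 + N) * (1 + M) := by
  by_cases h2 : 2 ≤ rk g 1
  · have : Nontrivial V := Module.nontrivial_of_finrank_pos (R := K) (by omega)
    obtain ⟨c, hc⟩ := exists_ne (0 : V)
    obtain ⟨r, hr, -⟩ := exists_functional_of_ne_top (bot_ne_top : (⊥ : Submodule K V) ≠ ⊤)
    obtain ⟨N, M, hN, hM, hg', hNc, hMr⟩ :=
      factor_good hK hK4 n hV (by omega) hdet ⟨hg, h2⟩ c hc r hr
    refine ⟨N, M, ⟨hN, fun h => hNc (by rw [h]; rfl)⟩, ⟨hM, fun h => hMr ?_⟩, hg'⟩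
    rw [h]
    exact LinearMap.comp_zero _
  · obtain ⟨f, a, hfa, rfl⟩ := exists_transvection hdet (by omega)
    have hne : f ≠ 0 ∧ a ≠ 0 := by
      constructor <;> intro h <;> apply hg 1 <;> ext x <;> simp [LinearMap.transvection.apply, h]
    obtain ⟨N, hN, hNt⟩ := exists_top_power (by omega) hV hne.1 hne.2 hfa
    have hNne : N ^ (n - 1) ≠ 0 := by
      rw [hNt]
      intro h
      obtain ⟨y, hy⟩ : ∃ y, f y ≠ 0 := by
        by_contra h'
        push Not at h'
        exact hne.1 (LinearMap.ext h')
      have h1 := congrArg (fun T : Module.End K V => T y) h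
      simp only [LinearMap.smulRight_apply, LinearMap.zero_apply, smul_eq_zero] at h1
      exact h1.elim hy hne.2
    have hnil : IsNilpotent N := ⟨n, hN⟩
    obtain ⟨u, hu⟩ := hnil.isUnit_one_add
    have hd : IsUnit (-(1 - N ^ (n - 2))) :=
      (hnil.pow_of_pos (show n - 2 ≠ 0 by omega)).isUnit_one_sub.neg
    obtain ⟨d, hd'⟩ := hd
    have hNu : Commute N (u : Module.End K V) := by
      rw [hu]; exact (Commute.one_right N).add_right (Commute.refl N)
    have hcu : Commute N (↑u⁻¹ : Module.End K V) := hNu.units_inv_right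
    have hcd : Commute N (d : Module.End K V) := by
      rw [hd']
      exact (((Commute.one_right N).sub_right ((Commute.refl N).pow_right _))).neg_right
    have hcw : Commute N ((u⁻¹ * d : (Module.End K V)ˣ) : Module.End K V) := by
      rw [Units.val_mul]
      exact hcu.mul_right hcd
    refine ⟨N, N * (u⁻¹ * d : (Module.End K V)ˣ), ⟨hN, hNne⟩, ⟨?_, ?_⟩, ?_⟩
    · rw [hcw.mul_pow, hN, zero_mul]
    · rw [hcw.mul_pow, ← Units.val_pow_eq_pow_val]
      exact fun h => hNne ((Units.mul_left_eq_zero _).1 h)
    · have e : (u : Module.End K V) * (N * ((u⁻¹ * d : (Module.End K V)ˣ) : Module.End K V)) =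
          N * (d : Module.End K V) := by
        rw [Units.val_mul, ← mul_assoc, ← hNu.eq, mul_assoc, ← mul_assoc (u : Module.End K V),
          Units.mul_inv, one_mul]
      rw [← hu, mul_add, mul_one, e, hu, hd', neg_sub, mul_sub, mul_one, ← pow_succ',
        show n - 2 + 1 = n - 1 by omega, hNt]
      ext x
      simp [LinearMap.transvection.apply]

/-- A field with at least four elements. -/
theorem big_of_cardinal (hK : 4 ≤ Cardinal.mk K) : Big K 3 ∧ ((2 : K) ≠ 0 → Big K 4) := by
  have key : ∀ s : Finset K, (∀ x, x ∈ s) → 4 ≤ s.card := fun s hs => by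
    let _ : Fintype K := ⟨s, hs⟩
    rw [Cardinal.mk_fintype] at hK
    exact_mod_cast hK
  refine ⟨fun s hs => ?_, fun h2 s hs => ?_⟩
  · by_contra h
    push Not at h
    have := key s h
    omega
  · by_contra h
    push Not at h
    let _ : Fintype K := ⟨s, h⟩
    have h4 : Fintype.card K = 4 := by
      have := key s h
      show s.card = 4
      omega
    have h0 := FiniteField.cast_card_eq_zero K
    rw [h4, show ((4 : ℕ) : K) = 2 * 2 by norm_num] at h0
    exact h2 (mul_self_eq_zero.1 h0)

/-- A regular unipotent is conjugate to the Jordan block. -/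
theorem exists_conj {n : ℕ} (hn : 1 ≤ n) (J : GL (Fin n) K)
    (hJ : ∀ i j : Fin n, (J : Matrix (Fin n) (Fin n) K) i j =
      if i = j then 1 else if j.val = i.val + 1 then 1 else 0)
    {N : Module.End K (Fin n → K)} (hN : Regular n N) :
    ∃ x : GL (Fin n) K, ((x * J * x⁻¹ : GL (Fin n) K) : Matrix (Fin n) (Fin n) K) =
      LinearMap.toMatrixAlgEquiv' (1 + N) := by
  obtain ⟨e, he⟩ := exists_chain hn (by simp) hN
  let _ := (Pi.basisFun K (Fin n)).invertibleToMatrix e
  let x : GL (Fin n) K := unitOfInvertible ((Pi.basisFun K (Fin n)).toMatrix e)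
  refine ⟨x, ?_⟩
  have key : (x : Matrix (Fin n) (Fin n) K) * (J : Matrix (Fin n) (Fin n) K) =
      LinearMap.toMatrixAlgEquiv' (1 + N) * (x : Matrix (Fin n) (Fin n) K) := by
    ext i j
    have hx : ∀ k, (x : Matrix (Fin n) (Fin n) K) i k = e k i := fun k => by
      simp [x, Basis.toMatrix_apply]
    have hR : ((LinearMap.toMatrixAlgEquiv' (1 + N) : Matrix (Fin n) (Fin n) K) *
        (x : Matrix (Fin n) (Fin n) K)) i j =
        ((1 + N) (e j)) i := by
      have h1 : (fun k => (x : Matrix (Fin n) (Fin n) K) k j) = e j := by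
        funext k; simp [x, Basis.toMatrix_apply]
      have h2 := congrArg (fun T : Module.End K (Fin n → K) => T (e j) i)
        (Matrix.toLinAlgEquiv'_toMatrixAlgEquiv' (1 + N))
      simp only [Matrix.toLinAlgEquiv'_apply] at h2
      rw [← h2, Matrix.mul_apply]
      simp only [Matrix.mulVec, dotProduct]
      exact Finset.sum_congr rfl fun k _ => by rw [← h1]
    rw [hR, LinearMap.add_apply, Module.End.one_apply, Pi.add_apply, he, Matrix.mul_apply]
    simp only [hx, hJ, mul_ite, mul_one, mul_zero]
    rw [← Finset.add_sum_erase _ _ (Finset.mem_univ j), if_pos rfl]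
    congr 1
    split_ifs with hj
    · rw [Finset.sum_eq_single (⟨(j : ℕ) - 1, by omega⟩ : Fin n)]
      · rw [if_neg (fun h => by have := congrArg Fin.val h; simp at this; omega),
          if_pos (show (j : ℕ) = (j : ℕ) - 1 + 1 by omega)]
      · intro k hk hk'
        rw [if_neg (by simpa using hk), if_neg]
        intro h
        exact hk' (Fin.ext (by simp; omega))
      · intro h
        refine absurd ?_ h
        simp [Fin.ext_iff]
        omega
    · refine Finset.sum_eq_zero fun k hk => ?_
      rw [if_neg (by simpa using hk), if_neg (by omega)]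
  rw [Units.val_mul, Units.val_mul, key, mul_assoc, Units.mul_inv, mul_one]

end Cfsg.Agent.Sourour
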