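import Mathlib

/-!
# Vectors avoiding few hyperplanes

Over a field with more than `m` elements `m` proper subspaces do not cover a vector space, and a
non-scalar endomorphism has a non-eigenvector outside them.
-/

namespace Cfsg.Agent.Sourour

open Module

variable {K : Type*} [Field K] {W : Type*} [AddCommGroup W] [Module K W]

/-- The field has more than `m` elements. -/
def Big (K : Type*) (m : ℕ) : Prop := ∀ s : Finset K, s.card ≤ m → ∃ x : K, x ∉ s

theorem Big.exists_not_mem {m : ℕ} (hK : Big K m) (l : List K) (hl : l.length ≤ m) :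
    ∃ x : K, x ∉ l := by
  classical
  obtain ⟨x, hx⟩ := hK l.toFinset (l.toFinset_card_le.trans hl)
  exact ⟨x, fun h => hx (List.mem_toFinset.2 h)⟩

/-- A point on the line `x + t y` outside the kernels, when `x` is outside them. -/
theorem exists_line {m : ℕ} (hK : Big K m) (L : List (Dual K W)) (hL : L.length ≤ m) (x y : W)
    (hxy : ∀ f ∈ L, f x ≠ 0 ∨ f y ≠ 0) : ∃ t : K, ∀ f ∈ L, f (x + t • y) ≠ 0 := by
  classical
  obtain ⟨t, ht⟩ := hK.exists_not_mem (L.map fun f => -(f x) / f y) (by simpa using hL)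
  refine ⟨t, fun f hf h0 => ?_⟩
  rw [map_add, map_smul, smul_eq_mul] at h0
  by_cases hy : f y = 0
  · rw [hy, mul_zero, add_zero] at h0
    exact (hxy f hf).elim (fun h => h h0) (fun h => h hy)
  · exact ht (List.mem_map.2 ⟨f, hf, by rw [div_eq_iff hy]; linear_combination -h0⟩)

theorem exists_avoid {m : ℕ} (hK : Big K m) :
    ∀ L : List (Dual K W), L.length ≤ m → (∀ f ∈ L, f ≠ 0) → ∃ x : W, ∀ f ∈ L, f x ≠ 0 := by
  intro L
  induction L with
  | nil => exact fun _ _ => ⟨0, fun f hf => absurd hf List.not_mem_nil⟩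
  | cons f L ih =>
    intro hlen hne
    obtain ⟨x, hx⟩ := ih (by simp at hlen; omega) fun g hg => hne g (List.mem_cons_of_mem _ hg)
    obtain ⟨y, hy⟩ : ∃ y, f y ≠ 0 := by
      by_contra h
      push Not at h
      exact hne f List.mem_cons_self (LinearMap.ext h)
    obtain ⟨t, ht⟩ := exists_line hK (f :: L) hlen x y fun g hg =>
      (List.mem_cons.1 hg).elim (fun e => Or.inr (e ▸ hy)) (fun h => Or.inl (hx g h))
    exact ⟨x + t • y, ht⟩

theorem exists_avoid_affine {m : ℕ} (hK : Big K m) (L : List (Dual K W × K)) (hL : L.length ≤ m)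
    (hne : ∀ q ∈ L, q.1 ≠ 0 ∨ q.2 ≠ 0) : ∃ x : W, ∀ q ∈ L, q.1 x + q.2 ≠ 0 := by
  classical
  obtain ⟨x, hx⟩ := exists_avoid hK ((L.map Prod.fst).filter fun f => decide (f ≠ 0))
    ((List.length_filter_le _ _).trans (by simpa using hL))
    (fun f hf => by simpa using (List.mem_filter.1 hf).2)
  obtain ⟨t, ht⟩ := hK.exists_not_mem (L.map fun q => -q.2 / q.1 x) (by simpa using hL)
  refine ⟨t • x, fun q hq h0 => ?_⟩
  rw [map_smul, smul_eq_mul] at h0
  by_cases h1 : q.1 = 0
  · rw [h1] at h0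
    exact (hne q hq).elim (fun h => h h1) (fun h => h (by simpa using h0))
  · have hqx : q.1 x ≠ 0 := hx q.1 (List.mem_filter.2 ⟨List.mem_map.2 ⟨q, hq, rfl⟩, by simpa using h1⟩)
    exact ht (List.mem_map.2 ⟨q, hq, by rw [div_eq_iff hqx]; linear_combination -h0⟩)

/-- A proper subspace lies in the kernel of a nonzero functional. -/
theorem exists_functional {S : Submodule K W} {x : W} (hx : x ∉ S) :
    ∃ f : Dual K W, f x ≠ 0 ∧ ∀ s ∈ S, f s = 0 := by
  obtain ⟨f, hf, hS⟩ := Submodule.exists_dual_map_eq_bot_of_notMem hx inferInstance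
  refine ⟨f, hf, fun s hs => ?_⟩
  have h : f s ∈ S.map f := Submodule.mem_map_of_mem hs
  rwa [hS, Submodule.mem_bot] at h

theorem exists_functional_of_ne_top {S : Submodule K W} (hS : S ≠ ⊤) :
    ∃ f : Dual K W, f ≠ 0 ∧ ∀ s ∈ S, f s = 0 := by
  obtain ⟨x, -, hx⟩ := SetLike.exists_of_lt (lt_top_iff_ne_top.2 hS)
  obtain ⟨f, hf, hfS⟩ := exists_functional hx
  exact ⟨f, fun h => hf (by simp [h]), hfS⟩

theorem exists_not_mem_span_singleton [FiniteDimensional K W] (hW : 2 ≤ finrank K W) (v : W) :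
    ∃ y, y ∉ Submodule.span K {v} := by
  by_contra h
  push Not at h
  have h1 := finrank_span_le_card (R := K) ({v} : Set W)
  rw [show Submodule.span K ({v} : Set W) = ⊤ from Submodule.eq_top_iff'.2 h, finrank_top] at h1
  simp at h1
  omega

/-- Two independent points outside the kernels. -/
theorem exists_two_outside [FiniteDimensional K W] {m : ℕ} (hK : Big K m) (hW : 2 ≤ finrank K W)
    (L : List (Dual K W)) (hL : L.length ≤ m) (hne : ∀ f ∈ L, f ≠ 0) :
    ∃ v w : W, v ≠ 0 ∧ w ∉ Submodule.span K {v} ∧ (∀ f ∈ L, f v ≠ 0) ∧ ∀ f ∈ L, f w ≠ 0 := by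
  obtain ⟨v, hv⟩ := exists_avoid hK L hL hne
  by_cases hv0 : v = 0
  · have hL0 : L = [] := List.eq_nil_iff_forall_not_mem.2 fun f hf => hv f hf (by rw [hv0, map_zero])
    subst hL0
    obtain ⟨u, hu⟩ := exists_not_mem_span_singleton (K := K) hW (0 : W)
    have hu0 : u ≠ 0 := fun h => hu (by rw [h]; exact zero_mem _)
    obtain ⟨w, hw⟩ := exists_not_mem_span_singleton (K := K) hW u
    exact ⟨u, w, hu0, hw, by simp, by simp⟩
  · obtain ⟨y, hy⟩ := exists_not_mem_span_singleton (K := K) hW v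
    obtain ⟨t, ht⟩ := exists_line hK L hL y v fun f hf => Or.inr (hv f hf)
    refine ⟨v, y + t • v, hv0, fun h => hy ?_, hv, ht⟩
    simpa using sub_mem h (Submodule.smul_mem _ t (Submodule.mem_span_singleton_self v))

/-- **A non-eigenvector outside few hyperplanes.** -/
theorem exists_noneigen [FiniteDimensional K W] {m : ℕ} (hK : Big K m) (hW : 3 ≤ finrank K W)
    (g : W →ₗ[K] W) (hg : ∀ a : K, g ≠ a • LinearMap.id)
    (L : List (Dual K W)) (hL : L.length ≤ m) (hne : ∀ f ∈ L, f ≠ 0) :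
    ∃ v : W, (∀ f ∈ L, f v ≠ 0) ∧ ∀ a : K, g v ≠ a • v := by
  obtain ⟨v, w, hv0, hwv, hv, hw⟩ := exists_two_outside hK (by omega) L hL hne
  by_contra hno
  push Not at hno
  -- every plane through an outside point is invariant
  have hplane : ∀ u : W, (∀ f ∈ L, f u ≠ 0) → ∀ d : W, ∃ a b : K, g d = a • u + b • d := by
    intro u hu d
    obtain ⟨eu, heu⟩ := hno u hu
    by_contra hd
    push Not at hd
    obtain ⟨t, ht⟩ := exists_line hK L hL d u fun f hf => Or.inr (hu f hf)
    obtain ⟨e, he⟩ := hno _ ht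
    rw [map_add, map_smul, heu, smul_smul, smul_add, smul_smul] at he
    exact hd (e * t - t * eu) e (by rw [sub_smul]; rw [eq_sub_of_add_eq he]; abel)
  set P := Submodule.span K ({v, w} : Set W) with hP
  have hout : ∀ d, d ∉ P → ∃ b : K, g d = b • d := by
    intro d hd
    obtain ⟨a, b, h1⟩ := hplane v hv d
    obtain ⟨a', b', h2⟩ := hplane w hw d
    refine ⟨b, ?_⟩
    have hb : b = b' := by
      by_contra hbb
      refine hd (Submodule.mem_span_pair.2 ⟨-(b - b')⁻¹ * a, (b - b')⁻¹ * a', ?_⟩)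
      have h3 : (b - b') • d = a' • w - a • v := by
        rw [sub_smul, sub_eq_sub_iff_add_eq_add]
        rw [add_comm (b • d), ← h1, h2]
      calc (-(b - b')⁻¹ * a) • v + ((b - b')⁻¹ * a') • w = (b - b')⁻¹ • (a' • w - a • v) := by module
        _ = (b - b')⁻¹ • ((b - b') • d) := by rw [h3]
        _ = d := by rw [smul_smul, inv_mul_cancel₀ (sub_ne_zero.2 hbb), one_smul]
    subst hb
    have h4 : a • v = a' • w := add_right_cancel (h1.symm.trans h2)
    have ha' : a' = 0 := by
      by_contra h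
      exact hwv (Submodule.mem_span_singleton.2 ⟨a'⁻¹ * a, by
        rw [mul_smul, h4, smul_smul, inv_mul_cancel₀ h, one_smul]⟩)
    rw [h2, ha', zero_smul, zero_add]
  have hPtop : P ≠ ⊤ := by
    intro h
    have h1 : finrank K P ≤ 2 := by
      classical
      refine (finrank_span_le_card ({v, w} : Set W)).trans ?_
      simp only [Set.toFinset_insert, Set.toFinset_singleton]
      exact Finset.card_le_two
    rw [h, finrank_top] at h1
    omega
  obtain ⟨d₀, -, hd₀⟩ := SetLike.exists_of_lt (lt_top_iff_ne_top.2 hPtop)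
  obtain ⟨a, ha⟩ := hout d₀ hd₀
  have hPP : ∀ x ∈ P, g x ∈ P := by
    intro x hx
    obtain ⟨s, t, rfl⟩ := Submodule.mem_span_pair.1 hx
    obtain ⟨ev, hev⟩ := hno v hv
    obtain ⟨ew, hew⟩ := hno w hw
    rw [map_add, map_smul, map_smul, hev, hew, smul_smul, smul_smul]
    exact Submodule.mem_span_pair.2 ⟨_, _, rfl⟩
  have hin : ∀ x ∈ P, g x = a • x := by
    intro x hx
    obtain ⟨b, hb⟩ := hout (x + d₀) fun h => hd₀ (by simpa using sub_mem h hx)
    rw [map_add, ha, smul_add] at hb
    have h1 : g x - b • x = (b - a) • d₀ := by rw [sub_smul, sub_eq_sub_iff_add_eq_add, hb, add_comm]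
    have h2 : b = a := by
      by_contra h
      refine hd₀ ?_
      have h3 : (b - a) • d₀ ∈ P := h1 ▸ sub_mem (hPP x hx) (P.smul_mem b hx)
      simpa [smul_smul, inv_mul_cancel₀ (sub_ne_zero.2 h)] using P.smul_mem (b - a)⁻¹ h3
    rw [h2, sub_self, zero_smul, sub_eq_zero] at h1
    exact h1
  refine hg a (LinearMap.ext fun y => ?_)
  rw [LinearMap.smul_apply, LinearMap.id_apply]
  by_cases hy : y ∈ P
  · exact hin y hy
  · obtain ⟨c, hc⟩ := hout y hy
    have hvP : v ∈ P := Submodule.subset_span (by simp)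
    obtain ⟨e, he⟩ := hout (v + y) fun h => hy (by simpa using sub_mem h hvP)
    rw [map_add, hin v hvP, hc, smul_add] at he
    have h1 : (a - e) • v = (e - c) • y := by
      rw [sub_smul, sub_smul, sub_eq_sub_iff_add_eq_add, he, add_comm]
    have h2 : e = c := by
      by_contra h
      refine hy ?_
      have h3 : (e - c) • y ∈ P := h1 ▸ P.smul_mem _ hvP
      simpa [smul_smul, inv_mul_cancel₀ (sub_ne_zero.2 h)] using P.smul_mem (e - c)⁻¹ h3
    rw [h2, sub_self, zero_smul, smul_eq_zero] at h1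
    rw [hc, sub_eq_zero.1 (h1.resolve_right hv0)]

/-- A non-eigenvector outside few lines of a plane. -/
theorem exists_noneigen_two [FiniteDimensional K W] {m : ℕ} (hK : Big K (m + 1))
    (hW : finrank K W = 2) (g : W →ₗ[K] W) (hg : ∀ a : K, g ≠ a • LinearMap.id)
    (L : List (Dual K W)) (hL : L.length ≤ m) (hne : ∀ f ∈ L, f ≠ 0) :
    ∃ v : W, (∀ f ∈ L, f v ≠ 0) ∧ ∀ a : K, g v ≠ a • v := by
  have hK' : Big K m := fun s hs => hK s (by omega)
  obtain ⟨v, w, hv0, hwv, hv, hw⟩ := exists_two_outside hK' (by omega) L hL hne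
  by_contra hno
  push Not at hno
  obtain ⟨a, ha⟩ := hno v hv
  obtain ⟨b, hb⟩ := hno w hw
  have hli : LinearIndependent K ![v, w] := (LinearIndependent.pair_iff' hv0).2 fun c hc =>
    hwv (Submodule.mem_span_singleton.2 ⟨c, hc⟩)
  have hspan : Submodule.span K (Set.range ![v, w]) = ⊤ :=
    hli.span_eq_top_of_card_eq_finrank (by simp [hW])
  have hab : a ≠ b := by
    intro h
    refine hg a (LinearMap.ext_on_range hspan fun i => ?_)
    fin_cases i <;> simp [ha, hb, h]
  classical
  obtain ⟨t, ht⟩ := hK.exists_not_mem (0 :: L.map fun f => -(f w) / f v) (by simp; omega)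
  simp only [List.mem_cons, not_or] at ht
  have hu : ∀ f ∈ L, f (w + t • v) ≠ 0 := fun f hf h0 => by
    rw [map_add, map_smul, smul_eq_mul] at h0
    exact ht.2 (List.mem_map.2 ⟨f, hf, by rw [div_eq_iff (hv f hf)]; linear_combination -h0⟩)
  obtain ⟨e, he⟩ := hno _ hu
  rw [map_add, map_smul, ha, hb, smul_add, smul_smul, smul_smul] at he
  have h1 : (b - e) • w = (e * t - t * a) • v := by
    rw [sub_smul, sub_smul, sub_eq_sub_iff_add_eq_add, he, add_comm]
  have h2 := (LinearIndependent.pair_iff' hv0).1 hli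
  by_cases hbe : b = e
  · rw [hbe, sub_self, zero_smul, eq_comm, smul_eq_zero] at h1
    have h3 := h1.resolve_right hv0
    rcases mul_eq_zero.1 (show t * (e - a) = 0 by linear_combination h3) with h | h
    · exact ht.1 h
    · exact hab (by rw [hbe, sub_eq_zero.1 h])
  · exact h2 ((b - e)⁻¹ * (e * t - t * a)) (by
      rw [mul_smul, ← h1, smul_smul, inv_mul_cancel₀ (sub_ne_zero.2 hbe), one_smul])

end Cfsg.Agent.Sourour
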