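import Cfsg.Agent.Sourour.Setup

/-!
# The step in dimension at least four
-/

set_option linter.unusedSectionVars false

namespace Cfsg.Agent.Sourour

open Module

variable {K : Type*} [Field K] {V : Type*} [AddCommGroup V] [Module K V] [FiniteDimensional K V]

private theorem chosen_of_rank_one {g : V →ₗ[K] V} (hK : Big K 3) (hV : 4 ≤ finrank K V)
    (hinj : Function.Injective g) (hg : Good g) {c : V} (hc : c ≠ 0) {r : Dual K V} (hr : r ≠ 0)
    {e : K} (he1 : e ≠ 1) (he : rk g e = 1) : Chosen g c r := by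
  have hkd := ker_add_rk g e
  have he0 : e ≠ 0 := fun h => by rw [h, rk_zero hinj] at he; omega
  obtain ⟨fS, hfS, hfSv⟩ := exists_guard (LinearMap.range (sh g e)) fun h => by
    have : rk g e = finrank K V := by
      show finrank K (LinearMap.range (sh g e)) = _
      rw [h, finrank_top]
    omega
  obtain ⟨v, φ, h0, h1, hve, hrv, hgc, hLv⟩ :=
    exists_vector hK (by omega) hg c hr [fS] (by simp) (by simp [hfS])
  obtain ⟨x, hx, hxP⟩ := exists_eigen_not_mem hve e (by omega)
  obtain ⟨S, z, hSv, hSc, hSz, hSx⟩ := exists_functional_split hK hg.2 h0 h1 hc hgc [(x, 0)]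
    (by simp) (by simp [hxP])
  subst hSv
  have hx0 : S.φ x ≠ 0 := hSx (x, 0) (by simp)
  have hvr : S.v ∉ LinearMap.range (sh g e) := hfSv _ (hLv fS (by simp))
  have hH := S.finrank_H
  have hred1 : 2 ≤ rk S.red 1 := by
    by_contra hlt
    obtain ⟨w, hw⟩ := near_one_red S (by omega)
    have hle : S.H ⊓ LinearMap.ker (sh g e) ≤ Submodule.span K {g S.v, w} := by
      intro y hy
      have h2 : sh g 1 y ∈ Submodule.span K {g S.v, w} := hw (Submodule.mem_map_of_mem hy.1)
      have h3 : g y = e • y := sub_eq_zero.1 (LinearMap.mem_ker.1 hy.2)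
      rw [sh_apply, h3, ← sub_smul] at h2
      simpa [smul_smul, inv_mul_cancel₀ (sub_ne_zero.2 he1)] using
        Submodule.smul_mem _ (e - 1)⁻¹ h2
    have h4 := finrank_map_add (sh g e) S.H
    have h5 : finrank K (S.H.map (sh g e)) ≤ rk g e :=
      Submodule.finrank_mono LinearMap.map_le_range
    have h6 := finrank_span_pair_le (K := K) (g S.v) w
    have heq := Submodule.eq_of_le_of_finrank_le hle (by omega)
    exact gv_not_mem_ker hinj hve e (heq.ge (Submodule.subset_span (by simp))).2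
  refine ⟨S, z, hrv, hSc, ne_self_of_noneigen hve, hSz, fun μ hμ => ?_, hred1⟩
  by_cases hμ1 : μ = 1
  · rw [hμ1] at hμ
    rw [rk_red_one_of_scalar hμ] at hred1
    omega
  have hsc := scalar_red S hμ
  by_cases hμe : μ = e
  · subst hμe
    refine hx0 (phi_ker S ?_ hx)
    rw [map_eq_bot S hsc (gv_not_mem hvr he0), finrank_bot]
    omega
  · have h7 := rk_le S μ
    have h8 : finrank K (S.H.map (sh g μ)) ≤ 1 :=
      (Submodule.finrank_mono (Submodule.map_le_iff_le_comap.2 hsc)).trans (finrank_span_single_le _)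
    have h9 : finrank K (LinearMap.ker (sh g e)) ≤ rk g μ :=
      Submodule.finrank_mono (ker_le_range g (Ne.symm hμe))
    omega

private theorem chosen_of_no_rank_one {g : V →ₗ[K] V} (hK : Big K 3) (hV : 4 ≤ finrank K V)
    (hinj : Function.Injective g) (hg : Good g) {c : V} (hc : c ≠ 0) {r : Dual K V} (hr : r ≠ 0)
    (hR : ∀ e : K, 2 ≤ rk g e) : Chosen g c r := by
  have : Nontrivial V := Module.nontrivial_of_finrank_pos (R := K) (by omega)
  obtain ⟨fS, hfS, hfSv⟩ := exists_guard' (LinearMap.range (sh g 1))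
  obtain ⟨v, φ, h0, h1, hve, hrv, hgc, hLv⟩ :=
    exists_vector hK (by omega) hg c hr [fS] (by simp) (by simp [hfS])
  -- the special eigenvalue
  obtain ⟨e, he1, heμ⟩ : ∃ e : K, (rk g 1 ≤ 2 → e = 1) ∧ ∀ μ, rk g μ ≤ 2 → rk g e ≤ 2 := by
    by_cases hA : rk g 1 ≤ 2
    · exact ⟨1, fun _ => rfl, fun _ _ => hA⟩
    · by_cases hB : ∃ μ, rk g μ ≤ 2
      · obtain ⟨μ, hμ⟩ := hB
        exact ⟨μ, fun h => absurd h hA, fun _ _ => hμ⟩
      · exact ⟨1, fun _ => rfl, fun μ hμ => absurd ⟨μ, hμ⟩ hB⟩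
  obtain ⟨Lx, hlen, hLxP, hLx⟩ : ∃ Lx : List (V × K), Lx.length ≤ 1 ∧
      (∀ q ∈ Lx, q.1 ∉ plane g v) ∧
      (rk g e ≤ 2 → ∃ x ∈ LinearMap.ker (sh g e), (x, (0 : K)) ∈ Lx) := by
    by_cases hA : rk g e ≤ 2
    · have hkd := ker_add_rk g e
      obtain ⟨x, hx, hxP⟩ := exists_eigen_not_mem hve e (by omega)
      exact ⟨[(x, 0)], by simp, by simp [hxP], fun _ => ⟨x, hx, by simp⟩⟩
    · exact ⟨[], by simp, by simp, fun h => absurd h hA⟩
  obtain ⟨S, z, hSv, hSc, hSz, hSx⟩ := exists_functional_split hK hg.2 h0 h1 hc hgc Lx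
    (by omega) (fun q hq h => absurd h (hLxP q hq))
  subst hSv
  have hH := S.finrank_H
  have hred1 : 2 ≤ rk S.red 1 := by
    by_contra hlt
    obtain ⟨w, hw⟩ := near_one_red S (by omega)
    have h6 := finrank_span_pair_le (K := K) (g S.v) w
    have h7 := rk_le S 1
    have h8 := Submodule.finrank_mono hw
    have hvr : S.v ∉ LinearMap.range (sh g 1) := fun hm => by
      have : rk g 1 = finrank K V := by
        show finrank K (LinearMap.range (sh g 1)) = _
        rw [hfSv _ (hLv fS (by simp)) hm, finrank_top]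
      omega
    have h9 : S.H.map (sh g 1) < Submodule.span K {g S.v, w} := by
      refine lt_of_le_not_ge hw fun h => gv_not_mem hvr one_ne_zero ?_
      exact LinearMap.map_le_range (h (Submodule.subset_span (by simp)))
    have h10 := Submodule.finrank_lt_finrank_of_lt h9
    have hr2 : rk g 1 ≤ 2 := by omega
    have he : e = 1 := he1 hr2
    subst he
    obtain ⟨x, hx, hxL⟩ := hLx hr2
    have hg2 := hg.2
    exact hSx _ hxL (phi_ker S (by omega) hx)
  refine ⟨S, z, hrv, hSc, ne_self_of_noneigen hve, hSz, fun μ hμ => ?_, hred1⟩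
  by_cases hμ1 : μ = 1
  · rw [hμ1] at hμ
    rw [rk_red_one_of_scalar hμ] at hred1
    omega
  have hsc := scalar_red S hμ
  have h7 := rk_le S μ
  have h8 : finrank K (S.H.map (sh g μ)) ≤ 1 :=
    (Submodule.finrank_mono (Submodule.map_le_iff_le_comap.2 hsc)).trans (finrank_span_single_le _)
  have hμ2 := hR μ
  have he2 : rk g e ≤ 2 := heμ μ (by omega)
  obtain ⟨x, hx, hxL⟩ := hLx he2
  by_cases hμe : μ = e
  · subst hμe
    exact hSx _ hxL (phi_ker S (by omega) hx)
  · have hkd := ker_add_rk g e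
    have heq : LinearMap.ker (sh g e) = LinearMap.range (sh g μ) :=
      Submodule.eq_of_le_of_finrank_le (ker_le_range g (Ne.symm hμe))
        (show rk g μ ≤ _ by omega)
    have hbot := map_eq_bot S hsc (fun h => gv_not_mem_ker hinj hve e (heq.ge h))
    rw [hbot, finrank_bot] at h7
    omega

theorem chosen_large {g : V →ₗ[K] V} (hK : Big K 3) (hV : 4 ≤ finrank K V)
    (hinj : Function.Injective g) (hg : Good g) {c : V} (hc : c ≠ 0) {r : Dual K V} (hr : r ≠ 0) :
    Chosen g c r := by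
  by_cases h : ∃ e : K, e ≠ 1 ∧ rk g e = 1
  · obtain ⟨e, he1, he⟩ := h
    exact chosen_of_rank_one hK hV hinj hg hc hr he1 he
  · refine chosen_of_no_rank_one hK hV hinj hg hc hr fun e => ?_
    have h1 := rk_pos hg.1 e
    by_cases he : e = 1
    · rw [he]; exact hg.2
    · by_contra hlt
      exact h ⟨e, he, by omega⟩

end Cfsg.Agent.Sourour
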