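import Cfsg.Agent.Sourour.Steps

/-!
# Choosing a good split
-/

set_option linter.unusedSectionVars false

namespace Cfsg.Agent.Sourour

open Module

variable {K : Type*} [Field K] {V : Type*} [AddCommGroup V] [Module K V] [FiniteDimensional K V]

/-- Non-scalar and not `1` plus rank at most one. -/
def Good (g : V →ₗ[K] V) : Prop := (∀ a : K, g ≠ a • LinearMap.id) ∧ 2 ≤ rk g 1

/-- A pair to which the step applies, with a good Schur complement. -/
def Chosen (g : V →ₗ[K] V) (c : V) (r : Dual K V) : Prop :=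
  ∃ (S : Split g) (z : V), r S.v ≠ 0 ∧ S.φ c ≠ 0 ∧ g S.v ≠ S.v ∧ S.φ (g z - z) ≠ 0 ∧ Good S.red

theorem ne_self_of_noneigen {g : V →ₗ[K] V} {v : V} (hv : ∀ a : K, g v ≠ a • v) : g v ≠ v :=
  fun h => hv 1 (by rw [one_smul, h])

/-- The vector. -/
theorem exists_vector {m : ℕ} (hK : Big K m) (hV : 3 ≤ finrank K V) {g : V →ₗ[K] V} (hg : Good g)
    (c : V) {r : Dual K V} (hr : r ≠ 0) (L : List (Dual K V)) (hL : L.length + 2 ≤ m)
    (hne : ∀ f ∈ L, f ≠ 0) :
    ∃ (v : V) (φ : Dual K V), φ v = 1 ∧ φ (g v) = 1 ∧ (∀ a : K, g v ≠ a • v) ∧ r v ≠ 0 ∧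
      g v - v ∉ Submodule.span K {c} ∧ ∀ f ∈ L, f v ≠ 0 := by
  obtain ⟨fC, hfC, hfCv⟩ := exists_guard_col (g := g) c hg.2
  obtain ⟨v, hv, hve⟩ := exists_noneigen hK hV g hg.1 (r :: fC :: L) (by simp; omega)
    (by simp only [List.forall_mem_cons]; exact ⟨hr, hfC, hne⟩)
  simp only [List.forall_mem_cons] at hv
  obtain ⟨φ, h0, h1⟩ := exists_phi hve
  exact ⟨v, φ, h0, h1, hve, hv.1, hfCv v hv.2.1, hv.2.2⟩

/-- The functional. -/
theorem exists_functional_split {m : ℕ} (hK : Big K m) {g : V →ₗ[K] V} (hg : 2 ≤ rk g 1)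
    {v c : V} {φ : Dual K V} (h0 : φ v = 1) (h1 : φ (g v) = 1) (hc : c ≠ 0)
    (hgc : g v - v ∉ Submodule.span K {c}) (L : List (V × K)) (hL : L.length + 2 ≤ m)
    (hne : ∀ q ∈ L, q.1 ∈ plane g v → φ q.1 ≠ q.2) :
    ∃ (S : Split g) (z : V), S.v = v ∧ S.φ c ≠ 0 ∧ S.φ (g z - z) ≠ 0 ∧ ∀ q ∈ L, S.φ q.1 ≠ q.2 := by
  obtain ⟨z, hz⟩ := exists_row_witness h0 h1 hg
  obtain ⟨S, hSv, hS⟩ := exists_split hK h0 h1 ((c, 0) :: (g z - z, 0) :: L) (by simp; omega)
    (by
      simp only [List.forall_mem_cons]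
      exact ⟨fun hmem => col_cond h0 h1 hc hgc hmem, hz, hne⟩)
  simp only [List.forall_mem_cons] at hS
  exact ⟨S, z, hSv, hS.1, hS.2.1, hS.2.2⟩

/-- A nonzero functional detecting a subspace unless it is everything. -/
theorem exists_guard' [Nontrivial V] (A : Submodule K V) :
    ∃ f : Dual K V, f ≠ 0 ∧ ∀ v, f v ≠ 0 → v ∈ A → A = ⊤ := by
  by_cases hA : A = ⊤
  · obtain ⟨f, hf, -⟩ := exists_functional_of_ne_top (bot_ne_top : (⊥ : Submodule K V) ≠ ⊤)
    exact ⟨f, hf, fun _ _ _ => hA⟩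
  · obtain ⟨f, hf, h⟩ := exists_guard A hA
    exact ⟨f, hf, fun v hv hm => absurd hm (h v hv)⟩

/-- The image of the hyperplane collapses if it avoids the only possible line. -/
theorem map_eq_bot {g : V →ₗ[K] V} (S : Split g) {e : K}
    (h : ∀ x ∈ S.H, sh g e x ∈ Submodule.span K {g S.v})
    (hgv : g S.v ∉ LinearMap.range (sh g e)) : S.H.map (sh g e) = ⊥ := by
  refine (Submodule.eq_bot_iff _).2 ?_
  rintro _ ⟨x, hx, rfl⟩
  obtain ⟨a, ha⟩ := Submodule.mem_span_singleton.1 (h x hx)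
  rw [← ha]
  by_cases ha0 : a = 0
  · rw [ha0, zero_smul]
  · refine absurd ?_ hgv
    have := Submodule.smul_mem (LinearMap.range (sh g e)) a⁻¹ (LinearMap.mem_range_self (sh g e) x)
    rwa [← ha, smul_smul, inv_mul_cancel₀ ha0, one_smul] at this

/-- When the image of the hyperplane is small, the kernel is inside it. -/
theorem ker_le_H {g : V →ₗ[K] V} (S : Split g) {e : K}
    (h : finrank K (S.H.map (sh g e)) + 1 ≤ rk g e) : LinearMap.ker (sh g e) ≤ S.H := by
  have h1 := finrank_map_add (sh g e) S.H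
  have h2 := ker_add_rk g e
  have h3 := S.finrank_H
  have := Submodule.eq_of_le_of_finrank_le (inf_le_right : S.H ⊓ LinearMap.ker (sh g e) ≤ _)
    (by omega)
  rw [← this]
  exact inf_le_left

theorem phi_ker {g : V →ₗ[K] V} (S : Split g) {e : K}
    (h : finrank K (S.H.map (sh g e)) + 1 ≤ rk g e) {x : V} (hx : x ∈ LinearMap.ker (sh g e)) :
    S.φ x = 0 := LinearMap.mem_ker.1 (ker_le_H S h hx)

/-- `g v` is no eigenvector. -/
theorem gv_not_mem_ker {g : V →ₗ[K] V} (hinj : Function.Injective g) {v : V}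
    (hv : ∀ a : K, g v ≠ a • v) (e : K) : g v ∉ LinearMap.ker (sh g e) := fun h => by
  rw [LinearMap.mem_ker, sh_apply, sub_eq_zero] at h
  exact hv e (hinj (by rw [h, map_smul]))

theorem rk_zero {g : V →ₗ[K] V} (hinj : Function.Injective g) : rk g 0 = finrank K V := by
  have h : LinearMap.ker (sh g 0) = ⊥ := by
    rw [show sh g 0 = g by simp [sh], LinearMap.ker_eq_bot]
    exact hinj
  have := ker_add_rk g 0
  rw [h, finrank_bot] at this
  omega

theorem rk_red_one_of_scalar {g : V →ₗ[K] V} {S : Split g} (h : S.red = (1 : K) • LinearMap.id) :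
    rk S.red 1 = 0 := by
  show finrank K (LinearMap.range (sh S.red 1)) = 0
  rw [show sh S.red 1 = 0 from sub_eq_zero.2 h, LinearMap.range_zero, finrank_bot]

end Cfsg.Agent.Sourour
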