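import Cfsg.Agent.Sourour.Avoid

/-!
# One step of a lower-upper factorisation

For `φ v = φ (g v) = 1` the endomorphism `g` is the product of two elementary factors and an
endomorphism `red` of the kernel of `φ`; regular unipotent factorisations lift.
-/

set_option linter.unusedSectionVars false
set_option linter.unusedSimpArgs false

namespace Cfsg.Agent.Sourour

open Module

variable {K : Type*} [Field K] {V : Type*} [AddCommGroup V] [Module K V]

/-- Every pair of a nonzero vector and a nonzero functional admits a factorisation into two regular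
unipotents adapted to them. -/
def Factor (k : ℕ) (g : V →ₗ[K] V) : Prop :=
  ∀ c : V, c ≠ 0 → ∀ r : Dual K V, r ≠ 0 → ∃ N M : Module.End K V, N ^ k = 0 ∧ M ^ k = 0 ∧
    (g : Module.End K V) = (1 + N) * (1 + M) ∧ (N ^ (k - 1)) c ≠ 0 ∧
      r.comp (M ^ (k - 1)) ≠ 0

/-- The normalised pair. -/
structure Split (g : V →ₗ[K] V) where
  v : V
  φ : Dual K V
  hv : φ v = 1
  hgv : φ (g v) = 1

namespace Split

variable {g : V →ₗ[K] V} (S : Split g)

/-- The hyperplane. -/
def H : Submodule K V := LinearMap.ker S.φ

/-- The projection along `v`. -/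
def proj : V →ₗ[K] S.H :=
  LinearMap.codRestrict S.H (LinearMap.id - S.φ.smulRight S.v) fun x => by
    rw [H, LinearMap.mem_ker]
    simp [S.hv]

theorem coe_proj (x : V) : (S.proj x : V) = x - S.φ x • S.v := rfl

/-- The Schur complement as an endomorphism of `V`. -/
def redV : V →ₗ[K] V := g - (S.φ.comp g).smulRight (g S.v)

theorem redV_apply (x : V) : S.redV x = g x - S.φ (g x) • g S.v := rfl

theorem redV_mem (x : V) : S.redV x ∈ S.H := by
  rw [H, LinearMap.mem_ker, redV_apply, map_sub, map_smul, S.hgv]
  simp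

theorem redV_v : S.redV S.v = 0 := by rw [redV_apply, S.hgv, one_smul, sub_self]

/-- The Schur complement. -/
def red : S.H →ₗ[K] S.H := LinearMap.codRestrict S.H (S.redV.comp S.H.subtype) fun _ => S.redV_mem _

theorem coe_red (h : S.H) : (S.red h : V) = g h - S.φ (g h) • g S.v := rfl

theorem redV_eq : S.redV = S.H.subtype.comp (S.red.comp S.proj) := by
  ext x
  show S.redV x = S.redV (S.proj x : V)
  rw [S.coe_proj, map_sub, map_smul, S.redV_v, smul_zero, sub_zero]

/-- The first column. -/
def col : S.H := ⟨g S.v - S.v, by rw [H, LinearMap.mem_ker, map_sub, S.hgv, S.hv, sub_self]⟩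

/-- The first row. -/
def row : Dual K S.H := (S.φ.comp g).comp S.H.subtype

theorem row_apply (h : S.H) : S.row h = S.φ (g h) := rfl

theorem proj_v : S.proj S.v = 0 := Subtype.ext (by simp [coe_proj, S.hv])

theorem proj_coe (h : S.H) : S.proj h = h := Subtype.ext (by
  have := LinearMap.mem_ker.1 h.2
  simp [coe_proj, this])

theorem finrank_H [FiniteDimensional K V] : finrank K S.H + 1 = finrank K V := by
  have h := S.φ.finrank_range_add_finrank_ker
  have hr : LinearMap.range S.φ = ⊤ :=
    LinearMap.range_eq_top.2 fun a => ⟨a • S.v, by simp [S.hv]⟩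
  rw [hr, finrank_top, Module.finrank_self] at h
  rw [H, ← h, add_comm]

/-- **Lifting a factorisation.** -/
theorem lift {k : ℕ} (hk : 1 ≤ k) (hfac : Factor k S.red) {c : V} {r : Dual K V}
    (hc : S.φ c ≠ 0) (hr : r S.v ≠ 0) (hcol : S.col ≠ 0) (hrow : S.row ≠ 0) :
    ∃ N M : Module.End K V, N ^ (k + 1) = 0 ∧ M ^ (k + 1) = 0 ∧
      (g : Module.End K V) = (1 + N) * (1 + M) ∧ (N ^ (k + 1 - 1)) c ≠ 0 ∧
        r.comp (M ^ (k + 1 - 1)) ≠ 0 := by
  obtain ⟨N', M', hN', hM', hg', hNc, hMr⟩ := hfac S.col hcol S.row hrow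
  set N : Module.End K V := S.H.subtype.comp (S.φ.smulRight S.col + N'.comp S.proj) with hN
  set M : Module.End K V := (S.row.comp S.proj).smulRight S.v + S.H.subtype.comp (M'.comp S.proj)
    with hM
  have hNx : ∀ x, N x = ((S.φ x • S.col + N' (S.proj x) : S.H) : V) := fun x => rfl
  have hMx : ∀ x, M x = S.row (S.proj x) • S.v + (M' (S.proj x) : V) := fun x => rfl
  have hNh : ∀ (j : ℕ) (h : S.H), (N ^ j) (h : V) = ((N' ^ j) h : V) := by
    intro j
    induction j with
    | zero => intro h; rfl
    | succ j ih =>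
      intro h
      rw [pow_succ, pow_succ, Module.End.mul_apply, Module.End.mul_apply, hNx, S.proj_coe,
        LinearMap.mem_ker.1 h.2, zero_smul, zero_add, ih]
  have hNpow : ∀ (j : ℕ) (x : V), (N ^ (j + 1)) x =
      S.φ x • ((N' ^ j) S.col : V) + ((N' ^ (j + 1)) (S.proj x) : V) := by
    intro j x
    rw [pow_succ, Module.End.mul_apply, hNx, hNh, map_add, map_smul, ← Module.End.mul_apply,
      ← pow_succ]
    rfl
  have hMv : M S.v = 0 := by rw [hMx, S.proj_v]; simp
  have hMvj : ∀ j, (M ^ (j + 1)) S.v = 0 := fun j => by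
    rw [pow_succ, Module.End.mul_apply, hMv, map_zero]
  have hMh : ∀ (j : ℕ) (h : S.H), (M ^ (j + 1)) (h : V) =
      S.row ((M' ^ j) h) • S.v + ((M' ^ (j + 1)) h : V) := by
    intro j
    induction j with
    | zero => intro h; rw [zero_add, pow_one, pow_one, hMx, S.proj_coe]; rfl
    | succ j ih =>
      intro h
      rw [pow_succ, Module.End.mul_apply, hMx, S.proj_coe, map_add, map_smul, hMvj, smul_zero,
        zero_add, ih, ← Module.End.mul_apply, ← Module.End.mul_apply, ← pow_succ, ← pow_succ]
  have hsplit : ∀ x : V, x = S.φ x • S.v + (S.proj x : V) := fun x => by simp [S.coe_proj]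
  obtain ⟨k, rfl⟩ : ∃ j, k = j + 1 := ⟨k - 1, by omega⟩
  simp only [Nat.add_sub_cancel] at hNc hMr ⊢
  refine ⟨N, M, LinearMap.ext fun x => ?_, LinearMap.ext fun x => ?_, LinearMap.ext fun x => ?_,
    ?_, ?_⟩
  · rw [hNpow, hN', pow_succ N' (k + 1), hN', zero_mul]
    simp
  · rw [hsplit x, map_add, map_smul, hMvj, smul_zero, zero_add, hMh, hM', pow_succ M' (k + 1), hM',
      zero_mul]
    simp
  · have e : S.red (S.proj x) = S.proj x + M' (S.proj x) + N' (S.proj x + M' (S.proj x)) := by
      have h := congrArg (fun T : Module.End K S.H => T (S.proj x)) hg'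
      simp only [Module.End.mul_apply, LinearMap.add_apply, Module.End.one_apply] at h
      exact h
    have e1 : (S.red (S.proj x) : V) = g x - S.φ (g x) • g S.v := by
      have := congrArg (fun T : V →ₗ[K] V => T x) S.redV_eq
      exact this.symm
    have e2 : g x = (S.red (S.proj x) : V) + S.φ (g x) • g S.v := by rw [e1]; abel
    rw [Module.End.mul_apply, LinearMap.add_apply, LinearMap.add_apply, Module.End.one_apply,
      Module.End.one_apply]
    have hp : S.φ (x + M x) = S.φ (g x) ∧ S.proj (x + M x) = S.proj x + M' (S.proj x) := by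
      refine ⟨?_, ?_⟩
      · rw [hMx, map_add, map_add, map_smul, S.hv, LinearMap.mem_ker.1 (M' (S.proj x)).2, S.row_apply,
          S.coe_proj, map_sub, map_smul, map_sub, map_smul, S.hgv]
        simp
      · rw [map_add, hMx, map_add, map_smul, S.proj_v, smul_zero, zero_add, S.proj_coe]
    have e3 : S.row (S.proj x) = S.φ (g x) - S.φ x := by
      rw [S.row_apply, S.coe_proj, map_sub, map_smul, map_sub, map_smul, S.hgv]
      simp
    rw [hNx, hp.1, hp.2, hMx, e3]
    generalize hA : S.φ (g x) = A at *
    rw [e2, e]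
    simp only [Submodule.coe_add, Submodule.coe_smul]
    rw [S.coe_proj x, show (S.col : V) = g S.v - S.v from rfl]
    module
  · rw [hNpow, hN', LinearMap.zero_apply, Submodule.coe_zero, add_zero]
    exact smul_ne_zero hc fun h => hNc (Subtype.ext h)
  · intro h0
    refine hMr (LinearMap.ext fun h => ?_)
    have := congrArg (fun T : Dual K V => T (h : V)) h0
    simp only [LinearMap.comp_apply, LinearMap.zero_apply] at this
    rw [hMh, hM', LinearMap.zero_apply, Submodule.coe_zero, add_zero, map_smul, smul_eq_mul,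
      mul_eq_zero] at this
    exact this.resolve_right hr

theorem trace_eq [FiniteDimensional K V] :
    LinearMap.trace K V g = LinearMap.trace K S.H S.red + S.φ (g (g S.v)) := by
  have h : g = S.redV + (S.φ.comp g).smulRight (g S.v) := by rw [redV, sub_add_cancel]
  conv_lhs => rw [h]
  rw [map_add, LinearMap.trace_smulRight, LinearMap.comp_apply, S.redV_eq,
    LinearMap.trace_comp_comm', LinearMap.comp_assoc]
  congr 3
  ext x
  simp [S.proj_coe]

/-- `V` is the product of the line and the hyperplane. -/
def prodEquiv : V ≃ₗ[K] K × S.H :=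
  LinearEquiv.ofLinearMap (S.φ.prod S.proj)
    ((LinearMap.toSpanSingleton K V S.v).coprod S.H.subtype)
    (by
      refine LinearMap.ext fun ⟨a, h⟩ => ?_
      have hh := LinearMap.mem_ker.1 h.2
      refine Prod.ext ?_ ?_
      · simp [S.hv, hh]
      · simp [S.proj_v, S.proj_coe])
    (by
      ext x
      simp [S.coe_proj])

theorem det_eq [FiniteDimensional K V] : LinearMap.det g = LinearMap.det S.red := by
  set P : V →ₗ[K] V := S.redV + S.φ.smulRight S.v with hP
  set T := LinearMap.transvection (S.φ.comp g - S.φ) S.v with hT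
  set U := LinearMap.transvection S.φ (g S.v - S.v) with hU
  have h0 : (S.φ.comp g - S.φ) S.v = 0 := by simp [S.hv, S.hgv]
  have hg : g = U ∘ₗ P ∘ₗ T := by
    ext x
    have h1 : S.φ ((P ∘ₗ T) x) = S.φ (g x) := by
      simp only [LinearMap.comp_apply, hP, hT, LinearMap.transvection.apply, LinearMap.add_apply,
        LinearMap.smulRight_apply, map_add, map_smul, S.redV_v,
        LinearMap.mem_ker.1 (S.redV_mem x), S.hv, LinearMap.sub_apply, smul_eq_mul, mul_zero,
        mul_one, smul_zero, map_zero]
      ring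
    rw [LinearMap.comp_apply, hU, LinearMap.transvection.apply, h1]
    simp only [LinearMap.comp_apply, hP, hT, LinearMap.transvection.apply, LinearMap.add_apply,
      LinearMap.smulRight_apply, map_add, map_smul, S.redV_v, S.hv, LinearMap.sub_apply,
      smul_eq_mul, mul_one, smul_zero, add_zero, S.redV_apply]
    module
  have hdP : LinearMap.det P = LinearMap.det S.red := by
    rw [← LinearMap.det_conj P S.prodEquiv]
    have : (S.prodEquiv : V →ₗ[K] K × S.H) ∘ₗ P ∘ₗ (S.prodEquiv.symm : K × S.H →ₗ[K] V) =
        LinearMap.prodMap LinearMap.id S.red := by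
      refine LinearMap.ext fun ⟨a, h⟩ => ?_
      have hh := LinearMap.mem_ker.1 h.2
      have e1 : S.prodEquiv.symm (a, h) = a • S.v + (h : V) := by simp [prodEquiv]
      have e2 : S.redV (h : V) = (S.red h : V) := rfl
      simp only [LinearMap.comp_apply, LinearEquiv.coe_coe, e1, hP, LinearMap.add_apply,
        LinearMap.smulRight_apply, map_add, map_smul, S.redV_v, hh, S.hv, e2]
      refine Prod.ext ?_ ?_
      · simp [prodEquiv, S.hv, LinearMap.mem_ker.1 (S.red h).2]
      · simp [prodEquiv, S.proj_v, S.proj_coe]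
    rw [this, LinearMap.det_prodMap, LinearMap.det_id, one_mul]
  rw [show LinearMap.det g = LinearMap.det (U ∘ₗ P ∘ₗ T) from congrArg _ hg, LinearMap.det_comp,
    LinearMap.det_comp, hdP, hU, hT, LinearMap.transvection.det,
    LinearMap.transvection.det, h0, map_sub, S.hgv, S.hv, sub_self, add_zero, one_mul, mul_one]

end Split

end Cfsg.Agent.Sourour
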