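import Cfsg.Agent.Sourour.Split

/-!
# Tools for choosing the normalised pair
-/

set_option linter.unusedSectionVars false

namespace Cfsg.Agent.Sourour

open Module

variable {K : Type*} [Field K] {V : Type*} [AddCommGroup V] [Module K V] [FiniteDimensional K V]

/-- The shifted endomorphism. -/
abbrev sh (g : V →ₗ[K] V) (e : K) : V →ₗ[K] V := g - e • LinearMap.id

/-- The rank of the shifted endomorphism. -/
noncomputable abbrev rk (g : V →ₗ[K] V) (e : K) : ℕ := finrank K (LinearMap.range (sh g e))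

theorem sh_apply (g : V →ₗ[K] V) (e : K) (x : V) : sh g e x = g x - e • x := rfl

theorem injective_of_det {g : V →ₗ[K] V} (hdet : LinearMap.det g = 1) : Function.Injective g :=
  ((Module.End.isUnit_iff g).1 ((LinearMap.isUnit_iff_isUnit_det g).2 (by rw [hdet]; exact isUnit_one))).1

theorem rk_pos {g : V →ₗ[K] V} (hg : ∀ a : K, g ≠ a • LinearMap.id) (e : K) : 1 ≤ rk g e := by
  by_contra h
  refine hg e (sub_eq_zero.1 (LinearMap.range_eq_bot.1 (Submodule.finrank_eq_zero.1 (show rk g e = 0 by omega))))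

theorem finrank_span_pair_le (a b : V) : finrank K (Submodule.span K ({a, b} : Set V)) ≤ 2 := by
  classical
  refine (finrank_span_le_card ({a, b} : Set V)).trans ?_
  simp only [Set.toFinset_insert, Set.toFinset_singleton]
  exact Finset.card_le_two

theorem finrank_span_single_le (a : V) : finrank K (Submodule.span K ({a} : Set V)) ≤ 1 :=
  (finrank_span_le_card ({a} : Set V)).trans (by simp)

theorem ker_add_rk (g : V →ₗ[K] V) (e : K) :
    finrank K (LinearMap.ker (sh g e)) + rk g e = finrank K V := by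
  rw [add_comm]; exact (sh g e).finrank_range_add_finrank_ker

/-- Restricting to a hyperplane. -/
theorem finrank_map_add (f : V →ₗ[K] V) (A : Submodule K V) :
    finrank K (A.map f) + finrank K ↥(A ⊓ LinearMap.ker f) = finrank K A := by
  have h := (f.domRestrict A).finrank_range_add_finrank_ker
  rw [LinearMap.range_domRestrict, LinearMap.ker_domRestrict] at h
  rw [← h, ← (Submodule.comapSubtypeEquivOfLe (inf_le_left : A ⊓ LinearMap.ker f ≤ A)).finrank_eq]
  have e : (A ⊓ LinearMap.ker f).comap A.subtype = (LinearMap.ker f).comap A.subtype := by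
    ext x
    simp
  rw [e]

/-- A functional killing a proper subspace. -/
theorem exists_guard (A : Submodule K V) (hA : A ≠ ⊤) :
    ∃ f : Dual K V, f ≠ 0 ∧ ∀ v, f v ≠ 0 → v ∉ A := by
  obtain ⟨f, hf, hfA⟩ := exists_functional_of_ne_top hA
  exact ⟨f, hf, fun v hv hvA => hv (hfA v hvA)⟩

/-- The vectors whose image under `g - 1` is a multiple of `c` form a proper subspace. -/
theorem exists_guard_col {g : V →ₗ[K] V} (c : V) (h : 2 ≤ rk g 1) :
    ∃ f : Dual K V, f ≠ 0 ∧ ∀ v, f v ≠ 0 → g v - v ∉ Submodule.span K {c} := by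
  obtain ⟨f, hf, hfv⟩ := exists_guard ((Submodule.span K {c}).comap (sh g 1)) (fun htop => by
    have hle : LinearMap.range (sh g 1) ≤ Submodule.span K {c} := by
      rintro _ ⟨x, rfl⟩
      exact Submodule.mem_comap.1 (htop.ge (Submodule.mem_top (x := x)))
    have : rk g 1 ≤ finrank K (Submodule.span K {c}) := Submodule.finrank_mono hle
    have := finrank_span_single_le (K := K) c
    omega)
  refine ⟨f, hf, fun v hv hmem => hfv v hv (Submodule.mem_comap.2 ?_)⟩
  rwa [sh_apply, one_smul]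

/-- The first normalised functional. -/
theorem exists_phi {g : V →ₗ[K] V} {v : V}
    (hv : ∀ a : K, g v ≠ a • v) : ∃ φ : Dual K V, φ v = 1 ∧ φ (g v) = 1 := by
  have h1 : g v ∉ Submodule.span K {v} := fun h => by
    obtain ⟨a, ha⟩ := Submodule.mem_span_singleton.1 h
    exact hv a ha.symm
  have h2 : v ∉ Submodule.span K {g v} := fun h => by
    obtain ⟨a, ha⟩ := Submodule.mem_span_singleton.1 h
    have ha0 : a ≠ 0 := fun h0 => hv 0 (by
      rw [h0, zero_smul] at ha
      rw [← ha, map_zero, smul_zero])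
    exact hv a⁻¹ (by conv_rhs => rw [← ha, smul_smul, inv_mul_cancel₀ ha0, one_smul])
  obtain ⟨f₁, hf₁, hf₁v⟩ := exists_functional h1
  obtain ⟨f₂, hf₂, hf₂v⟩ := exists_functional h2
  refine ⟨(f₁ (g v))⁻¹ • f₁ + (f₂ v)⁻¹ • f₂, ?_, ?_⟩
  · simp [hf₁v v (Submodule.mem_span_singleton_self v), hf₂]
  · simp [hf₂v (g v) (Submodule.mem_span_singleton_self (g v)), hf₁]

/-- The plane of `v` and `g v`. -/
def plane (g : V →ₗ[K] V) (v : V) : Submodule K V := Submodule.span K {v, g v}

theorem left_mem_plane (g : V →ₗ[K] V) (v : V) : v ∈ plane g v := Submodule.subset_span (by simp)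

theorem right_mem_plane (g : V →ₗ[K] V) (v : V) : g v ∈ plane g v :=
  Submodule.subset_span (by simp)

theorem finrank_plane_le (g : V →ₗ[K] V) (v : V) : finrank K (plane g v) ≤ 2 :=
  finrank_span_pair_le _ _

theorem finrank_plane {g : V →ₗ[K] V} {v : V} (hv : ∀ a : K, g v ≠ a • v) :
    finrank K (plane g v) = 2 := by
  have hv0 : v ≠ 0 := fun h => hv 0 (by rw [h, map_zero, smul_zero])
  have hli : LinearIndependent K ![v, g v] :=
    (LinearIndependent.pair_iff' hv0).2 fun a ha => hv a ha.symm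
  have h := finrank_span_eq_card hli
  rw [Fintype.card_fin] at h
  rw [plane, show ({v, g v} : Set V) = Set.range ![v, g v] by simp [Matrix.range_cons, Set.pair_comm]]
  exact h

/-- An eigenspace of dimension at least two contains vectors outside the plane. -/
theorem exists_eigen_not_mem {g : V →ₗ[K] V} {v : V} (hv : ∀ a : K, g v ≠ a • v) (e : K)
    (h : 2 ≤ finrank K (LinearMap.ker (sh g e))) :
    ∃ x ∈ LinearMap.ker (sh g e), x ∉ plane g v := by
  by_contra hno
  push Not at hno
  have heq := Submodule.eq_of_le_of_finrank_le (fun x hx => hno x hx) ((finrank_plane_le g v).trans h)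
  have := heq.ge (left_mem_plane g v)
  rw [LinearMap.mem_ker, sh_apply, sub_eq_zero] at this
  exact hv e this

/-- Adjusting the functional. -/
theorem exists_split {m : ℕ} (hK : Big K m) {g : V →ₗ[K] V} {v : V} {φ₀ : Dual K V}
    (h0 : φ₀ v = 1) (h0' : φ₀ (g v) = 1) (L : List (V × K)) (hL : L.length ≤ m)
    (hne : ∀ q ∈ L, q.1 ∈ plane g v → φ₀ q.1 ≠ q.2) :
    ∃ S : Split g, S.v = v ∧ ∀ q ∈ L, S.φ q.1 ≠ q.2 := by
  let W : Submodule K (Dual K V) := (plane g v).dualAnnihilator
  obtain ⟨ψ, hψ⟩ := exists_avoid_affine (W := ↥W) hK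
    (L.map fun q => (((Dual.eval K V q.1).domRestrict W : Dual K W), φ₀ q.1 - q.2)) (by simpa using hL) (by
      intro q hq
      obtain ⟨⟨x, a⟩, hxa, rfl⟩ := List.mem_map.1 hq
      by_cases hx : x ∈ plane g v
      · exact Or.inr (sub_ne_zero.2 (hne _ hxa hx))
      · refine Or.inl fun h => ?_
        obtain ⟨f, hf, hfP⟩ := exists_functional hx
        exact hf (congrArg (fun T : Dual K W => T ⟨f, (Submodule.mem_dualAnnihilator f).2 hfP⟩) h))
  refine ⟨⟨v, φ₀ + (ψ : Dual K V), ?_, ?_⟩, rfl, fun q hq h => ?_⟩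
  · rw [LinearMap.add_apply, h0, (Submodule.mem_dualAnnihilator _).1 ψ.2 _ (left_mem_plane g v),
      add_zero]
  · rw [LinearMap.add_apply, h0', (Submodule.mem_dualAnnihilator _).1 ψ.2 _ (right_mem_plane g v),
      add_zero]
  · refine hψ _ (List.mem_map.2 ⟨q, hq, rfl⟩) ?_
    have h' : φ₀ q.1 + (ψ : Dual K V) q.1 = q.2 := h
    show (ψ : Dual K V) q.1 + (φ₀ q.1 - q.2) = 0
    linear_combination h'

/-- The condition on `c`. -/
theorem col_cond {g : V →ₗ[K] V} {v c : V} {φ : Dual K V} (h0 : φ v = 1) (h0' : φ (g v) = 1)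
    (hc : c ≠ 0) (hgc : g v - v ∉ Submodule.span K {c}) (hmem : c ∈ plane g v) : φ c ≠ 0 := by
  intro h
  obtain ⟨a, b, rfl⟩ := Submodule.mem_span_pair.1 hmem
  rw [map_add, map_smul, map_smul, h0, h0', smul_eq_mul, smul_eq_mul, mul_one, mul_one] at h
  have ha : a = -b := eq_neg_of_add_eq_zero_left h
  have hb : b ≠ 0 := fun hb => hc (by rw [ha, hb]; simp)
  exact hgc (Submodule.mem_span_singleton.2 ⟨b⁻¹, by
    rw [ha, neg_smul, smul_add, smul_neg, smul_smul, smul_smul, inv_mul_cancel₀ hb, one_smul, one_smul]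
    abel⟩)

/-- A witness that the row does not vanish. -/
theorem exists_row_witness {g : V →ₗ[K] V} {v : V} {φ : Dual K V} (h0 : φ v = 1)
    (h0' : φ (g v) = 1) (h : 2 ≤ rk g 1) :
    ∃ z : V, g z - z ∈ plane g v → φ (g z - z) ≠ 0 := by
  by_contra hno
  push Not at hno
  have hle : LinearMap.range (sh g 1) ≤ Submodule.span K {g v - v} := by
    rintro _ ⟨z, rfl⟩
    obtain ⟨hz, hz0⟩ := hno z
    obtain ⟨a, b, hab⟩ := Submodule.mem_span_pair.1 hz
    rw [← hab, map_add, map_smul, map_smul, h0, h0', smul_eq_mul, smul_eq_mul, mul_one, mul_one] at hz0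
    rw [sh_apply, one_smul, ← hab, eq_neg_of_add_eq_zero_left hz0]
    exact Submodule.mem_span_singleton.2 ⟨b, by module⟩
  have : rk g 1 ≤ finrank K (Submodule.span K {g v - v}) := Submodule.finrank_mono hle
  have := finrank_span_single_le (K := K) (g v - v)
  omega

/-- **The step.** -/
theorem step {g : V →ₗ[K] V} (S : Split g) {k : ℕ} (hk : finrank K V = k) {c : V} {r : Dual K V}
    {z : V} (hk1 : 1 ≤ k - 1) (hfac : Factor (k - 1) S.red) (hr : r S.v ≠ 0) (hc : S.φ c ≠ 0)
    (hv : g S.v ≠ S.v) (hz : S.φ (g z - z) ≠ 0) :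
    ∃ N M : Module.End K V, N ^ k = 0 ∧ M ^ k = 0 ∧
      (g : Module.End K V) = (1 + N) * (1 + M) ∧ (N ^ (k - 1)) c ≠ 0 ∧ r.comp (M ^ (k - 1)) ≠ 0 := by
  have hrow : S.row ≠ 0 := fun h => hz (by
    have h1 := congrArg (fun T : Dual K S.H => T (S.proj z)) h
    simp only [LinearMap.zero_apply] at h1
    rw [Split.row_apply, Split.coe_proj, map_sub, map_smul, map_sub, map_smul, S.hgv] at h1
    rw [map_sub, ← h1]
    simp)
  have hcol : S.col ≠ 0 := fun h => hv (sub_eq_zero.1 (congrArg Subtype.val h))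
  have h := S.lift hk1 hfac hc hr hcol hrow
  rwa [show k - 1 + 1 = k by omega] at h

/-- If the Schur complement is scalar then `g - μ` nearly vanishes on the hyperplane. -/
theorem scalar_red {g : V →ₗ[K] V} (S : Split g) {μ : K} (h : S.red = μ • LinearMap.id) :
    ∀ x ∈ S.H, sh g μ x ∈ Submodule.span K {g S.v} := by
  intro x hx
  have h1 := congrArg Subtype.val (congrArg (fun T : S.H →ₗ[K] S.H => T ⟨x, hx⟩) h)
  simp only [Split.coe_red, LinearMap.smul_apply, LinearMap.id_apply, Submodule.coe_smul] at h1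
  refine Submodule.mem_span_singleton.2 ⟨S.φ (g x), ?_⟩
  rw [sh_apply, ← h1]
  abel

/-- If the Schur complement is close to `1` then so is `g - 1` on the hyperplane. -/
theorem near_one_red {g : V →ₗ[K] V} (S : Split g) (h : rk S.red 1 ≤ 1) :
    ∃ w : V, S.H.map (sh g 1) ≤ Submodule.span K {g S.v, w} := by
  obtain ⟨w, hw⟩ := finrank_le_one_iff.1 h
  refine ⟨((w : S.H) : V), ?_⟩
  rintro _ ⟨x, hx, rfl⟩
  obtain ⟨a, ha⟩ := hw ⟨sh S.red 1 ⟨x, hx⟩, LinearMap.mem_range_self _ _⟩
  refine Submodule.mem_span_pair.2 ⟨S.φ (g x), a, ?_⟩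
  have h1 : a • ((w : S.H) : V) = ((sh S.red 1 ⟨x, hx⟩ : S.H) : V) := congrArg (fun z => ((z.1 : S.H) : V)) ha
  rw [h1, sh_apply, sh_apply, Submodule.coe_sub, Submodule.coe_smul, Split.coe_red]
  module

/-- `range (g - e)` is spanned by the image of the hyperplane and one further vector. -/
theorem range_le {g : V →ₗ[K] V} (S : Split g) (e : K) :
    LinearMap.range (sh g e) ≤ S.H.map (sh g e) ⊔ Submodule.span K {sh g e S.v} := by
  rintro _ ⟨x, rfl⟩
  have hx : x = (S.proj x : V) + S.φ x • S.v := by rw [Split.coe_proj]; abel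
  rw [hx, map_add, map_smul]
  exact Submodule.add_mem_sup (Submodule.mem_map_of_mem (S.proj x).2)
    (Submodule.smul_mem _ _ (Submodule.mem_span_singleton_self _))

theorem rk_le {g : V →ₗ[K] V} (S : Split g) (e : K) :
    rk g e ≤ finrank K (S.H.map (sh g e)) + 1 := by
  have : rk g e ≤ _ := Submodule.finrank_mono (range_le S e)
  have := Submodule.finrank_add_le_finrank_add_finrank (S.H.map (sh g e))
    (Submodule.span K {sh g e S.v})
  have := finrank_span_single_le (K := K) (sh g e S.v)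
  omega

/-- Outside the range, `g v` meets it trivially. -/
theorem gv_not_mem {g : V →ₗ[K] V} {v : V} {e : K} (hv : v ∉ LinearMap.range (sh g e))
    (he : e ≠ 0) : g v ∉ LinearMap.range (sh g e) := fun h => hv (by
  have h1 := sub_mem h (LinearMap.mem_range_self (sh g e) v)
  rw [sh_apply, sub_sub_cancel] at h1
  simpa [smul_smul, inv_mul_cancel₀ he] using Submodule.smul_mem _ e⁻¹ h1)

/-- A kernel is inside the range of another shift. -/
theorem ker_le_range (g : V →ₗ[K] V) {e e' : K} (h : e ≠ e') :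
    LinearMap.ker (sh g e) ≤ LinearMap.range (sh g e') := by
  intro x hx
  rw [LinearMap.mem_ker, sh_apply, sub_eq_zero] at hx
  refine ⟨(e - e')⁻¹ • x, ?_⟩
  rw [map_smul, sh_apply, hx, ← sub_smul, smul_smul, inv_mul_cancel₀ (sub_ne_zero.2 h), one_smul]

end Cfsg.Agent.Sourour
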